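import Cfsg.Agent.Lib.Recog.FiThree.Aut.Frame
import Cfsg.Agent.Lib.Recog.SporBound.Fi22Aut.Main
import Cfsg.Prelude.Def_KGroupFacts

set_option autoImplicit false
set_option maxRecDepth 20000
set_option linter.style.haveILetI false

/-!
The outer automorphism group of Fi23 is trivial (owner: helper18).

An automorphism maps a transposition into the centraliser of an element of order 11, which leaves few
possibilities; then the stabiliser, a double cover of Fi22, reduces the question to the automorphisms of Fi22.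
-/

namespace CfsgLib.Recog.FiThree.Aut

open Cfsg CfsgLib.Recog.BitPerm CfsgLib.Recog.SporBound CfsgLib.ThreeTrans.CosetIndex CfsgLib.Recog.FiThree
open CfsgLib.Recog.SporBound.Fi22Group (a)
open CfsgLib.Recog.SporBound.Fi22Aut (yWord y rv orderOf_y involution_cent_y)
open scoped Pointwise

attribute [local instance] finite_fi23'

local notation "G" => Cfsg.Spor.Fi23
local notation "Q" => Cfsg.Spor.Fi22

/-- The quotient of the stabiliser as Fi22. -/
noncomputable def quotEquiv : Q ≃* hSub ⧸ Subgroup.center hSub :=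
  MulEquiv.ofBijective fromFi22 (by
    haveI := finite_fi22
    exact (Nat.bijective_iff_surjective_and_card _).2 ⟨fromFi22_surjective,
      le_antisymm (card_quot ▸ card_fi22_le) (Nat.card_le_card_of_surjective _ fromFi22_surjective)⟩)

/-- The stabiliser onto Fi22. -/
noncomputable def proj : hSub →* Q := quotEquiv.symm.toMonoidHom.comp (QuotientGroup.mk' _)

theorem proj_gg {x : ℕ} (hx : x ∈ hLetters) : proj ⟨gg x, gg_mem_h hx⟩ = a x := by
  refine quotEquiv.injective ?_
  rw [proj, MonoidHom.comp_apply, MulEquiv.coe_toMonoidHom, MulEquiv.apply_symm_apply]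
  show _ = fromFi22 (gen _ _ _ x)
  have h9 : x < gens22.length := (show ∀ y ∈ hLetters, y < gens22.length by decide) x hx
  rw [gen, List.getElem?_eq_getElem (show x < Cfsg.Agent.S1687.gens.length from h9), Option.elim_some]
  show _ = fromFi22 (PresentedGroup.of gens22[x])
  rw [fromFi22, PresentedGroup.toGroup.of, (show gens22.Nodup by decide).idxOf_getElem _ h9, toQuot, dif_pos hx]

theorem proj_word {w : List ℕ} (hw : ∀ x ∈ w, x ∈ hLetters) :
    proj ⟨word w, mem_letterSub hw⟩ = (w.map a).prod := by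
  induction w with
  | nil =>
    rw [show (⟨word [], mem_letterSub hw⟩ : hSub) = 1 from Subtype.ext List.prod_nil, map_one]; rfl
  | cons x w ih =>
    rw [show (⟨word (x :: w), mem_letterSub hw⟩ : hSub) = ⟨gg x, gg_mem_h (hw x List.mem_cons_self)⟩ *
      ⟨word w, mem_letterSub fun y hy => hw y (List.mem_cons_of_mem _ hy)⟩ from Subtype.ext (by simp [word]),
      map_mul, ih (fun y hy => hw y (List.mem_cons_of_mem _ hy)), proj_gg (hw x List.mem_cons_self), List.map_cons,
      List.prod_cons]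

theorem proj_ker {n : hSub} (h : proj n = 1) : (n : G) = 1 ∨ (n : G) = zz := by
  rw [proj, MonoidHom.comp_apply, MulEquiv.coe_toMonoidHom, MulEquiv.map_eq_one_iff] at h
  rcases center_h n ((QuotientGroup.eq_one_iff n).1 h) with e | e
  · exact Or.inl (congrArg Subtype.val e)
  · exact Or.inr (congrArg Subtype.val e)

/-- The element of order 11. -/
noncomputable def yy : G := word yWord

theorem yy_mem : yy ∈ hSub := word_mem_h y_letters

theorem proj_yy : proj ⟨yy, yy_mem⟩ = y :=
  proj_word (fun x hx => List.contains_iff_mem.1 (List.all_eq_true.1 y_letters x hx))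

theorem word_replicate (w : List ℕ) : ∀ n, word (List.replicate n w).flatten = word w ^ n
  | 0 => by rw [pow_zero]; rfl
  | n + 1 => by rw [List.replicate_succ, List.flatten_cons, word_append, word_replicate w n, pow_succ']

theorem yy_eleven : yy ^ 11 = 1 := by
  have h : proj ⟨yy ^ 11, pow_mem yy_mem 11⟩ = 1 := by
    rw [show (⟨yy ^ 11, pow_mem yy_mem 11⟩ : hSub) = ⟨yy, yy_mem⟩ ^ 11 from rfl, map_pow, proj_yy, ← orderOf_y,
      pow_orderOf_eq_one]
  refine (proj_ker h).resolve_right fun e => ?_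
  have h1 := act_maps y_pJ
  rw [word_replicate, show word yWord ^ 11 = zz from e, act_maps z_pJ] at h1
  exact absurd h1 (by decide)

theorem orderOf_yy : orderOf yy = 11 := by
  have : Fact (Nat.Prime 11) := ⟨by norm_num⟩
  refine orderOf_eq_prime yy_eleven fun e => ?_
  have h := orderOf_y
  rw [← proj_yy, show (⟨yy, yy_mem⟩ : hSub) = 1 from Subtype.ext e, map_one, orderOf_one] at h
  omega

theorem a_yy : gg 0 * yy = yy * gg 0 := by
  have h := word_eq_one y_comm
  rw [word_append, word_append, word_append, word_reverse, word_singleton] at h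
  calc gg 0 * yy = (gg 0)⁻¹ * yy := by rw [inv_eq_of_mul_eq_one_right (gg_sq 0)]
    _ = (word yWord * gg 0 * (word yWord)⁻¹ * gg 0)⁻¹ * (yy * gg 0) := by rw [yy]; group
    _ = _ := by rw [h, inv_one, one_mul]

theorem yy_fix {c : ℕ} (hc : c < 31671) (h : act yy c = c) : c = 0 ∨ c = pA := by
  have key : ∀ n : ℕ, Nat.beq (Nat.lor (moved yWord) (Nat.lor 1 (Nat.shiftLeft 1 pA))) (2 ^ n - 1) = true → c < n →
      (moved yWord ||| (1 ||| 1 <<< pA)).testBit c = true := fun n h hn => by
    rw [← decide_eq_true hn, ← Nat.testBit_two_pow_sub_one n c, ← Nat.eq_of_beq_eq_true h]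
    rfl
  have hb := key numPoints y_fixed (numPoints_eq.symm ▸ hc)
  have hnm : (moved yWord).testBit c = false := by
    have key2 : ∀ k, (Nat.rec 0 (fun r D => Nat.lor D (Nat.xor (runWord net yWord (plane r 15)) (plane r 15))) k : ℕ).testBit c = false := by
      intro k
      induction k with
      | zero => exact Nat.zero_testBit c
      | succ k ihk =>
        show ((Nat.rec 0 _ k : ℕ) ||| (runWord net yWord (plane k 15) ^^^ plane k 15)).testBit c = false
        rw [Nat.testBit_or, ihk, Bool.false_or, Nat.testBit_xor, testBit_runWord acts.valid, ← act_word,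
          show act (word yWord) c = c from h, Bool.xor_self]
    exact key2 15
  rw [Nat.testBit_or, hnm, Bool.false_or, Nat.testBit_or, Nat.one_shiftLeft, Nat.testBit_two_pow, Bool.or_eq_true,
    decide_eq_true_eq] at hb
  rcases hb with hb | hb
  · exact Or.inl (Nat.eq_zero_of_not_pos fun hpos => by
      rw [Nat.testBit_eq_false_of_lt (Nat.one_lt_two_pow (by omega))] at hb
      exact Bool.noConfusion hb)
  · exact Or.inr hb.symm

theorem invol {x : G} (hx : x * x = 1) (hx1 : x ≠ 1) (hc : x * yy = yy * x) :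
    x = zz ∨ x = gg 0 ∨ x = za ∨ act x 0 = pA := by
  have hy0 : act yy 0 = 0 := pt_h yy_mem
  rcases yy_fix (c := act x 0) (pt_lt x) (by
    rw [← Equiv.Perm.mul_apply, ← map_mul, ← hc, map_mul, Equiv.Perm.mul_apply, hy0]) with h | h
  swap
  · exact Or.inr (Or.inr (Or.inr h))
  have hm : x ∈ hSub := mem_h_iff.2 h
  by_cases h1 : proj ⟨x, hm⟩ = 1
  · exact Or.inl ((proj_ker h1).resolve_left hx1)
  have e := involution_cent_y (x := proj ⟨x, hm⟩)
    (by rw [← map_mul, show (⟨x, hm⟩ * ⟨x, hm⟩ : hSub) = 1 from Subtype.ext hx, map_one]) h1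
    (by rw [← proj_yy, ← map_mul, ← map_mul]; exact congrArg proj (Subtype.ext hc))
  rw [← proj_gg (x := 0) (by decide), ← inv_mul_eq_one, ← map_inv, ← map_mul] at e
  rcases proj_ker e with e | e
  · exact Or.inr (Or.inl (inv_mul_eq_one.1 e))
  · refine Or.inr (Or.inr (Or.inl ?_))
    have e' : x⁻¹ * gg 0 = zz := e
    rw [za, ← e', inv_eq_of_mul_eq_one_right hx]
    rw [inv_eq_of_mul_eq_one_right hx] at e'
    calc x = x * (gg 0 * gg 0) := by rw [gg_sq, mul_one]
      _ = (x * gg 0) * gg 0 := (mul_assoc _ _ _).symm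
      _ = _ := by rw [e', ← a_zz]

theorem cPair_of_fix {k : G} (h0 : act k 0 = 0) (hA : act k pA = pA) : k ∈ cPair := by
  have hh : k ∈ hSub := mem_h_iff.2 h0
  exact Subgroup.mem_centralizer_singleton_iff.2 (comm_za hh (kSub_comm_a (n := ⟨k, hh⟩) (mem_kSub.2 hA)))

theorem letter_mem {x : ℕ} (hx : x ∈ [2, 3, 4, 5, 6, 7, 8]) : gg x ∈ cPair := by
  have h := List.all_eq_true.1 letters_fix_pair x hx
  simp only [Bool.and_eq_true] at h
  rw [← word_singleton]
  exact cPair_of_fix (act_maps h.1) (act_maps h.2)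

/-- A homomorphism of the centraliser of the product into the signs kills the transposition. -/
theorem sign_zz (φ : cPair →* ℤˣ) :
    φ ⟨zz, Subgroup.mem_centralizer_singleton_iff.2 za_zz.symm⟩ = 1 := by
  set u := φ ⟨gg 2, letter_mem (by decide)⟩ with hu
  have step : ∀ p q (hp : p ∈ [2, 3, 4, 5, 6, 7, 8]) (hq : q ∈ [2, 3, 4, 5, 6, 7, 8]),
      (p, q) ∈ [(2, 3), (3, 4), (3, 7), (4, 5), (5, 6), (7, 8)] → φ ⟨gg p, letter_mem hp⟩ = u →
      φ ⟨gg q, letter_mem hq⟩ = u := by
    intro p q hp hq he hφ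
    obtain ⟨c, hc, e⟩ := braid (x := p) (y := q) (edge_ok (by
      revert he; simp only [List.mem_cons, List.not_mem_nil, or_false]; tauto))
    rw [show (⟨gg q, letter_mem hq⟩ : cPair) = ⟨c, hc _ (letter_mem hp) (letter_mem hq)⟩ * ⟨gg p, letter_mem hp⟩ *
      (⟨c, hc _ (letter_mem hp) (letter_mem hq)⟩ : cPair)⁻¹ from Subtype.ext e, map_mul, map_mul, map_inv,
      mul_comm (φ _), mul_inv_cancel_right, hφ]
  have hall : ∀ x (hx : x ∈ [2, 3, 4, 5, 6, 7, 8]), φ ⟨gg x, letter_mem hx⟩ = u := by
    have e2 : φ ⟨gg 2, letter_mem (by decide)⟩ = u := rfl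
    have e3 := step 2 3 (by decide) (by decide) (by decide) e2
    have e4 := step 3 4 (by decide) (by decide) (by decide) e3
    have e7 := step 3 7 (by decide) (by decide) (by decide) e3
    have e5 := step 4 5 (by decide) (by decide) (by decide) e4
    have e6 := step 5 6 (by decide) (by decide) (by decide) e5
    have e8 := step 7 8 (by decide) (by decide) (by decide) e7
    intro x hx
    fin_cases hx <;> assumption
  have huu : u * u = 1 := Int.units_mul_self u
  have hodd : ∀ l : List (List ℕ), (∀ c ∈ l, mapsOK net c 0 0 = true ∧ mapsOK net c pA pA = true) →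
      ∃ hm : word (l.flatMap fun c => c ++ [2] ++ c.reverse) ∈ cPair, φ ⟨_, hm⟩ = u ^ l.length := by
    intro l
    induction l with
    | nil => exact fun _ => ⟨one_mem _, (map_one φ).trans (pow_zero u).symm⟩
    | cons c l ih =>
      intro hl
      obtain ⟨hm, he⟩ := ih fun d hd => hl d (List.mem_cons_of_mem _ hd)
      have hc := cPair_of_fix (act_maps (hl c List.mem_cons_self).1) (act_maps (hl c List.mem_cons_self).2)
      have ew : word ((c :: l).flatMap fun c => c ++ [2] ++ c.reverse) =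
          word c * gg 2 * (word c)⁻¹ * word (l.flatMap fun c => c ++ [2] ++ c.reverse) := by
        rw [List.flatMap_cons, word_append, word_append, word_append, word_reverse, word_singleton]
      refine ⟨ew ▸ mul_mem (mul_mem (mul_mem hc (letter_mem (by decide))) (inv_mem hc)) hm, ?_⟩
      refine (congrArg φ (Subtype.ext (a2 := ⟨word c, hc⟩ * ⟨gg 2, letter_mem (by decide)⟩ *
        (⟨word c, hc⟩ : cPair)⁻¹ * ⟨_, hm⟩) ew)).trans ?_
      rw [map_mul, map_mul, map_mul, map_inv, mul_comm (φ ⟨word c, hc⟩), mul_inv_cancel_right, he, List.length_cons,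
        pow_succ', hu]
  obtain ⟨hm, he⟩ := hodd odd fun c hc => by simpa using List.all_eq_true.1 odd_fix c hc
  have hu1 : u = 1 := by
    have e1 : (⟨_, hm⟩ : cPair) = 1 := Subtype.ext (word_eq_one odd_one)
    rw [e1, map_one, show odd.length = 7 from rfl] at he
    calc u = u ^ 7 := by rw [show (7 : ℕ) = 2 * 3 + 1 from rfl, pow_succ, pow_mul, pow_two, huu, one_pow, one_mul]
      _ = 1 := he.symm
  have hz : zz = word eSeven := by
    have h := word_eq_one eSeven_eq
    rw [word_append] at h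
    exact (inv_eq_of_mul_eq_one_right zz_sq).symm.trans (eq_inv_of_mul_eq_one_left h).symm
  have hw : ∀ w : List ℕ, (∀ x ∈ w, x ∈ [2, 3, 4, 5, 6, 7, 8]) → ∃ hm : word w ∈ cPair, φ ⟨_, hm⟩ = 1 := by
    intro w
    induction w with
    | nil => exact fun _ => ⟨one_mem _, map_one φ⟩
    | cons x w ih =>
      intro hx
      obtain ⟨hm, he⟩ := ih fun y hy => hx y (List.mem_cons_of_mem _ hy)
      have ew : word (x :: w) = gg x * word w := by simp [word]
      refine ⟨ew ▸ mul_mem (letter_mem (hx x List.mem_cons_self)) hm, ?_⟩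
      refine (congrArg φ (Subtype.ext (a2 := (⟨gg x, letter_mem (hx x List.mem_cons_self)⟩ : cPair) * ⟨_, hm⟩) ew)).trans ?_
      rw [map_mul, hall x (hx x List.mem_cons_self), hu1, he, one_mul]
  obtain ⟨hm', he'⟩ := hw eSeven (by decide)
  rw [← he']
  exact congrArg φ (Subtype.ext hz)

theorem trans_conj {x : G} (hx : x ∈ trans) (g : G) : g * x * g⁻¹ ∈ trans := by
  obtain ⟨h, rfl⟩ := mem_trans.1 hx
  exact mem_trans.2 ⟨g * h, by group⟩

/-- If an automorphism keeps the centraliser of the element of order 11, it keeps the transpositions. -/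
theorem image_zz_aux (β : G ≃* G) (hβ : ∀ x, x * yy = yy * x → β x * yy = yy * β x) : β zz ∈ trans := by
  have bad : ∀ u, u ∈ trans → β u ≠ za := fun u hu e => za_not_short (e ▸ short_map β (short_trans hu))
  have zy : zz * yy = yy * zz := (zz_comm yy_mem).symm
  have hga : β zz = (β (word ga))⁻¹ * β (gg 0) * β (word ga) := by
    rw [← map_inv, ← map_mul, ← map_mul]
    congr 1
    rw [← ga_zz]; group
  have inv : ∀ x : G, x * x = 1 → x ≠ 1 → x * yy = yy * x →
      β x = zz ∨ β x = gg 0 ∨ β x = za ∨ act (β x) 0 = pA := fun x hx hx1 hc =>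
    invol (by rw [← map_mul, hx, map_one]) (fun e => hx1 ((map_eq_one_iff β β.injective).1 e)) (hβ x hc)
  have zne : zz ≠ 1 := fun e => by have := orderOf_zz; rw [e, orderOf_one] at this; omega
  have ane : gg 0 ≠ 1 := fun e => za_ne_one (by
    exfalso
    have h := ga_zz
    rw [e] at h
    exact zne (conj_eq_one_iff.1 h))
  rcases inv zz zz_sq zne zy with h | h | h | h1
  · rw [h]; exact zz_trans
  · rw [h]; exact a_trans
  · exact absurd h (bad zz zz_trans)
  have finish : β (gg 0) ∈ trans → β zz ∈ trans := fun ht => by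
    rw [hga]
    simpa using trans_conj ht (β (word ga))⁻¹
  rcases inv (gg 0) (gg_sq 0) ane a_yy with h | h | h | h2
  · exact finish (by rw [h]; exact zz_trans)
  · exact finish (by rw [h]; exact a_trans)
  · exact absurd h (bad (gg 0) a_trans)
  exfalso
  have hp : pA ≠ 0 := by decide
  have hza_y : za * yy = yy * za := by rw [za, mul_assoc, zy, ← mul_assoc, a_yy, mul_assoc]
  have h0 : act (β za) 0 = 0 := by
    rw [za, a_zz, map_mul, map_mul, Equiv.Perm.mul_apply, h2]
    rw [← h1, ← Equiv.Perm.mul_apply, ← map_mul, ← map_mul, zz_sq, map_one, map_one]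
    rfl
  have hza : β za = za := by
    have bad' : ∀ u, u ∈ trans → β za ≠ u := fun u hu e =>
      za_not_short (by simpa [← e] using short_map β.symm (short_trans hu))
    rcases inv za za_sq za_ne_one hza_y with h | h | h | h
    · exact absurd h (bad' _ zz_trans)
    · exact absurd h (bad' _ a_trans)
    · exact h
    · exact absurd (h0.symm.trans h).symm hp
  have hmaps : ∀ g, g ∈ cPair → β g ∈ cPair := fun g hg => by
    rw [Subgroup.mem_centralizer_singleton_iff] at hg ⊢
    rw [← hza, ← map_mul, ← map_mul, hg]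
  let φ : cPair →* ℤˣ := swapSign.comp ((β.toMonoidHom.comp cPair.subtype).codRestrict cPair fun g => hmaps g g.2)
  have h := swapSign_eq (g := ⟨β zz, hmaps zz (Subgroup.mem_centralizer_singleton_iff.2 za_zz.symm)⟩) (sign_zz φ)
  exact hp (h1.symm.trans h)

theorem image_zz (α : G ≃* G) : α zz ∈ trans := by
  have : Fact (Nat.Prime 11) := ⟨by norm_num⟩
  have hc : ∀ g : G, orderOf g = 11 → Nat.card (Subgroup.zpowers g) = 11 ^ (Nat.card G).factorization 11 := by
    intro g hg
    rw [Nat.card_zpowers, hg, card_fi23]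
    have : (4089470473293004800 : ℕ).factorization 11 = 1 := by
      rw [show (4089470473293004800 : ℕ) = 11 * 371770043026636800 by norm_num,
        Nat.factorization_mul (by norm_num) (by norm_num),
        Finsupp.add_apply, Nat.Prime.factorization_self (by norm_num), Nat.factorization_eq_zero_of_not_dvd (by norm_num)]
    rw [this, pow_one]
  let P : Sylow 11 G := Sylow.ofCard (Subgroup.zpowers yy) (hc yy orderOf_yy)
  let P' : Sylow 11 G := Sylow.ofCard (Subgroup.zpowers (α yy)) (hc _ (by rw [MulEquiv.orderOf_eq, orderOf_yy]))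
  obtain ⟨g, hg⟩ := MulAction.exists_smul_eq G P' P
  have hmem : g * α yy * g⁻¹ ∈ Subgroup.zpowers yy := by
    have h := Subgroup.smul_mem_pointwise_smul (α yy) (MulAut.conj g) (P' : Subgroup G) (Subgroup.mem_zpowers _)
    have e : (P : Subgroup G) = MulAut.conj g • (P' : Subgroup G) := by rw [← hg]; rfl
    rw [← e] at h
    exact h
  have hfull : yy ∈ Subgroup.zpowers (g * α yy * g⁻¹) := by
    have h : (⟨yy, Subgroup.mem_zpowers yy⟩ : Subgroup.zpowers yy) ∈
        Subgroup.zpowers (⟨g * α yy * g⁻¹, hmem⟩ : Subgroup.zpowers yy) := by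
      refine mem_zpowers_of_prime_card (p := 11) (by rw [Nat.card_zpowers, orderOf_yy]) ?_
      intro e
      have e' := congrArg Subtype.val e
      rw [OneMemClass.coe_one, conj_eq_one_iff, map_eq_one_iff α α.injective] at e'
      have := orderOf_yy
      rw [e', orderOf_one] at this
      omega
    obtain ⟨k, hk⟩ := Subgroup.mem_zpowers_iff.1 h
    exact Subgroup.mem_zpowers_iff.2 ⟨k, congrArg Subtype.val hk⟩
  have h := image_zz_aux (α.trans (MulAut.conj g)) fun x hx => by
    show g * α x * g⁻¹ * yy = yy * (g * α x * g⁻¹)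
    obtain ⟨k, hk⟩ := Subgroup.mem_zpowers_iff.1 hfull
    rw [← hk]
    refine (Commute.zpow_right (?_ : Commute (g * α x * g⁻¹) (g * α yy * g⁻¹)) k).eq
    show _ = _
    calc g * α x * g⁻¹ * (g * α yy * g⁻¹) = g * α (x * yy) * g⁻¹ := by rw [map_mul]; group
      _ = _ := by rw [hx, map_mul]; group
  have h' := trans_conj h g⁻¹
  rw [show g⁻¹ * (α.trans (MulAut.conj g)) zz * g⁻¹⁻¹ = α zz by
    show g⁻¹ * (g * α zz * g⁻¹) * g⁻¹⁻¹ = _
    group] at h'
  exact h'

theorem hom_ext {f f' : G →* G} (h : ∀ x < 10, f (gg x) = f' (gg x)) : f = f' := by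
  refine MonoidHom.eq_of_eqOn_dense closure_gg_lt ?_
  rintro _ ⟨x, hx, rfl⟩
  exact h x hx

theorem gg_zz_not_trans {x : ℕ} (hx : x ∈ hLetters) : gg x * zz ∉ trans := fun h => by
  obtain ⟨c, hc, e⟩ := gg_conj_in hSub (fun y hy => gg_mem_h hy) hx
  refine za_not_trans ?_
  have h' := trans_conj h c⁻¹
  rwa [show c⁻¹ * (gg x * zz) * c⁻¹⁻¹ = za by
    rw [e, za, show c⁻¹ * (c * gg 0 * c⁻¹ * zz) * c⁻¹⁻¹ = gg 0 * (c⁻¹ * (zz * c)) by group,
      ← zz_comm hc]
    group] at h'

theorem trans_gg {x : ℕ} (hx : x < 10) : gg x ∈ trans := mem_trans.2 (gg_conj hx)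

theorem image_trans (α : G ≃* G) {d : G} (hd : d ∈ trans) : α d ∈ trans := by
  obtain ⟨g, rfl⟩ := mem_trans.1 hd
  rw [map_mul, map_mul, map_inv]
  exact trans_conj (image_zz α) _

theorem rv_mem {x : ℕ} (hx : x ∈ hLetters) : rv x ∈ hLetters :=
  (show ∀ x ∈ hLetters, rv x ∈ hLetters by decide) x hx

/-- An automorphism fixing the base transposition, followed to Fi22. -/
theorem letters_image (γ : G ≃* G) (hγ : γ zz = zz) :
    ∃ h ∈ hSub, (∀ x ∈ hLetters, h * γ (gg x) * h⁻¹ = gg x) ∨ (∀ x ∈ hLetters, h * γ (gg x) * h⁻¹ = gg (rv x)) := by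
  haveI := finite_fi22
  have hmem : ∀ g, g ∈ hSub → γ g ∈ hSub := fun g hg => mem_h_of_comm (by
    conv_lhs => rw [← hγ, ← map_mul, zz_comm hg, map_mul, hγ])
  have hmem' : ∀ g, g ∈ hSub → γ.symm g ∈ hSub := fun g hg => mem_h_of_comm (γ.injective (by
    rw [map_mul, map_mul, γ.apply_symm_apply, hγ, zz_comm hg]))
  let δ : hSub ≃* hSub :=
    { toFun := fun g => ⟨γ g, hmem g g.2⟩
      invFun := fun g => ⟨γ.symm g, hmem' g g.2⟩
      left_inv := fun g => Subtype.ext (γ.symm_apply_apply g)
      right_inv := fun g => Subtype.ext (γ.apply_symm_apply g)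
      map_mul' := fun g g' => Subtype.ext (map_mul γ (g : G) g') }
  let η : Q ≃* Q := (quotEquiv.trans (QuotientGroup.congr (Subgroup.center hSub) (Subgroup.center hSub) δ (by
    apply le_antisymm
    · rintro _ ⟨n, hn, rfl⟩
      exact Subgroup.mem_center_iff.2 fun g => by
        obtain ⟨g', rfl⟩ := δ.surjective g
        show δ g' * δ n = δ n * δ g'
        rw [← map_mul, ← map_mul, Subgroup.mem_center_iff.1 hn g']
    · intro n hn
      refine ⟨δ.symm n, Subgroup.mem_center_iff.2 fun g => δ.injective ?_, δ.apply_symm_apply n⟩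
      rw [map_mul, map_mul, δ.apply_symm_apply, Subgroup.mem_center_iff.1 hn (δ g)]))).trans quotEquiv.symm
  have hη : ∀ g : hSub, η (proj g) = proj (δ g) := fun g => by
    simp only [η, proj, MulEquiv.trans_apply, MonoidHom.comp_apply, MulEquiv.coe_toMonoidHom, MulEquiv.apply_symm_apply]
    rfl
  have hsurj : Function.Surjective proj := fun q => by
    obtain ⟨g, hg⟩ := QuotientGroup.mk'_surjective _ (quotEquiv q)
    exact ⟨g, by rw [proj, MonoidHom.comp_apply, hg, MulEquiv.coe_toMonoidHom, MulEquiv.symm_apply_apply]⟩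
  have lift : ∀ (f : ℕ → ℕ), (∀ x ∈ hLetters, f x ∈ hLetters) → ∀ q : Q,
      (∀ x ∈ hLetters, q * η (a x) * q⁻¹ = a (f x)) → ∃ h ∈ hSub, ∀ x ∈ hLetters, h * γ (gg x) * h⁻¹ = gg (f x) := by
    intro f hf q hq
    obtain ⟨h, rfl⟩ := hsurj q
    refine ⟨h, h.2, fun x hx => ?_⟩
    have e : proj ((h * δ ⟨gg x, gg_mem_h hx⟩ * h⁻¹) * ⟨gg (f x), gg_mem_h (hf x hx)⟩) = 1 := by
      rw [map_mul, map_mul, map_mul, map_inv, ← hη, proj_gg hx, hq x hx, proj_gg (hf x hx)]
      exact gen_inv nodes22 _
    rcases proj_ker e with e | e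
    · exact (mul_eq_one_iff_eq_inv.1 e).trans (inv_eq_of_mul_eq_one_right (gg_sq _))
    · exfalso
      refine gg_zz_not_trans (hf x hx) ?_
      have e' : (h : G) * γ (gg x) * (h : G)⁻¹ * gg (f x) = zz := e
      have hx10 : x < 10 := (show ∀ y ∈ hLetters, y < 10 by decide) x hx
      have ht := trans_conj (image_trans γ (trans_gg hx10)) (h : G)
      rwa [show gg (f x) * zz = (h : G) * γ (gg x) * (h : G)⁻¹ by
        rw [zz_comm (gg_mem_h (hf x hx)), ← e', mul_assoc _ (gg (f x)), gg_sq, mul_one]]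
  obtain ⟨σ, hσ⟩ := Fi22Aut.exists_sigma
  haveI : Finite (MulAut Q) := Finite.of_injective (fun α : MulAut Q => (α : Q → Q)) DFunLike.coe_injective
  have htwo := Fi22Aut.card_out
  rw [Nat.card_eq_two_iff' (1 : Cfsg.Out Q)] at htwo
  by_cases hin : (η : MulAut Q) ∈ Cfsg.Inn Q
  · obtain ⟨q, hq⟩ := hin
    obtain ⟨h, hh, hh'⟩ := lift id (fun x hx => hx) q⁻¹ fun x _ => by
      rw [← DFunLike.congr_fun hq, MulAut.conj_apply]
      show _ = a x
      group
    exact ⟨h, hh, Or.inl hh'⟩
  · obtain ⟨o, -, ho⟩ := htwo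
    have e1 := ho (QuotientGroup.mk (η : MulAut Q)) fun e => hin ((QuotientGroup.eq_one_iff _).1 e)
    have e2 := ho (QuotientGroup.mk (σ : MulAut Q)) fun e => Fi22Aut.sigma_not_inner hσ ((QuotientGroup.eq_one_iff _).1 e)
    obtain ⟨q, hq⟩ := QuotientGroup.eq.1 (e1.trans e2.symm)
    obtain ⟨h, hh, hh'⟩ := lift rv (fun x hx => rv_mem hx) (η q) fun x hx => by
      have e : σ (a x) = η (q * a x * q⁻¹) := by
        rw [← MulAut.conj_apply, hq, MulAut.mul_apply, MulAut.inv_apply, MulEquiv.apply_symm_apply]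
      rw [← hσ x (by have := (show ∀ y ∈ hLetters, y < 9 by decide) x hx; exact this), e, map_mul, map_mul, map_inv]
    exact ⟨h, hh, Or.inr hh'⟩

theorem pJ_fixed {t : G} (ht : t ∈ trans) (hz : ¬ t * zz = zz * t)
    (hc : ∀ x ∈ [0, 1, 2, 3, 4, 5, 7, 8], gg x * t = t * gg x) : t = gg 9 ∨ t = zz * gg 9 * zz := by
  obtain ⟨g, rfl⟩ := mem_trans.1 ht
  have h2 : orb2.testBit (pt g) = true := by
    rcases cover (pt_lt g) with h | h | h
    · exact absurd (by rw [conj_of_pt (g' := 1) (h.trans (by rw [pt, map_one]; rfl))]; group) hz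
    · obtain ⟨k, hk, e⟩ := orb1_sub h
      refine absurd ?_ hz
      rw [conj_of_pt (g' := k * word ga) (by
        rw [show pt (k * word ga) = act k (pt (word ga)) by simp only [pt, map_mul, Equiv.Perm.mul_apply], pt_ga, e]),
        show k * word ga * zz * (k * word ga)⁻¹ = k * (word ga * zz * (word ga)⁻¹) * k⁻¹ by group, ga_zz]
      exact zz_comm (mul_mem (mul_mem hk a_mem_h) (inv_mem hk))
    · exact h
  have hfix : ∀ w ∈ lWords, wordPerm net w (pt g) = pt g := by
    intro w hw
    simp only [lWords, List.mem_cons, List.not_mem_nil, or_false] at hw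
    rcases hw with rfl | rfl | rfl | rfl | rfl | rfl | rfl | rfl <;>
    · rw [← act_word, word_singleton]
      exact comm_iff_fix.1 (hc _ (by decide))
  rcases fixed_in_orb2 h2 hfix with h | h
  · exact Or.inl ((conj_of_pt (h.trans pt_gj.symm)).trans gj_zz)
  · refine Or.inr ?_
    rw [conj_of_pt (g' := zz * word gj) (h.trans ?_), ← gj_zz,
      show zz * word gj * zz * (zz * word gj)⁻¹ = zz * (word gj * zz * (word gj)⁻¹) * zz⁻¹ by group,
      inv_eq_of_mul_eq_one_right zz_sq]
    rw [pt, map_mul, Equiv.Perm.mul_apply, show act (word gj) 0 = pJ from pt_gj, act_maps z_pJ]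

theorem inner (α : G ≃* G) : (α : MulAut G) ∈ Cfsg.Inn G := by
  obtain ⟨g, hg⟩ := mem_trans.1 (image_zz α)
  have hγ : (α.trans (MulAut.conj g⁻¹)) zz = zz := by
    show g⁻¹ * α zz * g⁻¹⁻¹ = zz
    rw [hg]; group
  obtain ⟨h, hh, hcase⟩ := letters_image _ hγ
  set ε := (α.trans (MulAut.conj g⁻¹)).trans (MulAut.conj h) with hε
  have happ : ∀ x, ε x = h * (α.trans (MulAut.conj g⁻¹)) x * h⁻¹ := fun _ => rfl
  have hεz : ε zz = zz := by rw [happ, hγ, zz_comm hh, mul_inv_cancel_right]
  have hnc : ¬ ε (gg 9) * zz = zz * ε (gg 9) := fun e => gg9_not_comm (ε.injective (by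
    rw [map_mul, map_mul, hεz, e]))
  have hcomm : ∀ x ∈ [0, 1, 2, 3, 4, 5, 7, 8], gg x * gg 9 = gg 9 * gg x := by
    intro x hx
    obtain ⟨p, hp, hw⟩ := List.mem_flatten.1 (List.contains_iff_mem.1 ((show
      ∀ y ∈ [0, 1, 2, 3, 4, 5, 7, 8], relParts.flatten.contains [y, 9, y, 9] = true by decide +kernel) x hx))
    have e := word_eq_one (List.all_eq_true.1 (rels_ok p hp) _ hw)
    simp only [word, List.map_cons, List.map_nil, List.prod_cons, List.prod_nil, mul_one] at e
    have e' := congrArg (fun z => z * (gg 9 * gg x)) e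
    simp only [mul_assoc, one_mul, gg_sq, mul_one, ← mul_assoc (gg x) (gg x), ← mul_assoc (gg 9) (gg 9)] at e'
    exact e'
  have ht := image_trans ε (trans_gg (show 9 < 10 by omega))
  rcases hcase with hid | hrv
  · have hle : ∀ x ∈ hLetters, ε (gg x) = gg x := fun x hx => (happ _).trans (hid x hx)
    have key : ∀ c : G, c ∈ hSub → (∀ x ∈ hLetters, c * gg x * c⁻¹ = gg x) → c * ε (gg 9) * c⁻¹ = gg 9 →
        (α : MulAut G) ∈ Cfsg.Inn G := by
      intro c _ hcx hc9
      refine ⟨(c * h * g⁻¹)⁻¹, ?_⟩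
      have := hom_ext (f := (ε.trans (MulAut.conj c)).toMonoidHom) (f' := MonoidHom.id G) fun x hx => by
        show c * ε (gg x) * c⁻¹ = gg x
        by_cases hm : x ∈ hLetters
        · rw [hle x hm, hcx x hm]
        · have : x = 9 := by
            simp only [hLetters, List.mem_cons, List.not_mem_nil, or_false] at hm
            omega
          rw [this]; exact hc9
      ext z
      have hz : c * (h * (g⁻¹ * α z * g⁻¹⁻¹) * h⁻¹) * c⁻¹ = z := DFunLike.congr_fun this z
      rw [MulAut.conj_apply]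
      conv_lhs => rw [← hz]
      group
    rcases pJ_fixed ht hnc (fun x hx => by
      have hx' : x ∈ hLetters := (show ∀ y ∈ [0, 1, 2, 3, 4, 5, 7, 8], y ∈ hLetters by decide) x hx
      rw [← hle x hx', ← map_mul, ← map_mul, hcomm x hx]) with e | e
    · exact key 1 (one_mem _) (fun x _ => by group) (by rw [e]; group)
    · refine key zz zz_mem_h (fun x hx => by rw [← zz_comm (gg_mem_h hx), mul_inv_cancel_right]) ?_
      rw [e, inv_eq_of_mul_eq_one_right zz_sq, show zz * (zz * gg 9 * zz) * zz = zz * zz * gg 9 * (zz * zz) by group,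
        zz_sq, one_mul, mul_one]
  · exfalso
    refine hnc ?_
    have hle : zz ∈ Subgroup.centralizer {ε (gg 9)} := by
      refine Subgroup.list_prod_mem _ fun d hd => ?_
      obtain ⟨x, hx, rfl⟩ := List.mem_map.1 hd
      obtain ⟨x', hx', rfl⟩ : ∃ x' ∈ [0, 1, 2, 3, 4, 5, 7, 8], rv x' = x := by
        have := (show ∀ y ∈ zW, ∃ x' ∈ [0, 1, 2, 3, 4, 5, 7, 8], rv x' = y by decide) x hx
        exact this
      have hx'' : x' ∈ hLetters := (show ∀ y ∈ [0, 1, 2, 3, 4, 5, 7, 8], y ∈ hLetters by decide) x' hx'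
      rw [← hrv x' hx'', ← happ, Subgroup.mem_centralizer_singleton_iff, ← map_mul, ← map_mul, hcomm x' hx']
    exact (Subgroup.mem_centralizer_singleton_iff.1 hle).symm

/-- The outer automorphism group of Fi23 is trivial. -/
theorem card_out : Nat.card (Cfsg.Out G) = 1 := by
  haveI : Subsingleton (Cfsg.Out G) := ⟨fun p q => by
    rw [← QuotientGroup.out_eq' p, ← QuotientGroup.out_eq' q]
    exact QuotientGroup.eq.2 (inner _)⟩
  exact Nat.card_unique

end CfsgLib.Recog.FiThree.Aut
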