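import Cfsg.Agent.Lib.Recog.FiThree.Data
import Cfsg.Agent.Lib.Recog.FiThree.CheckFixed
import Cfsg.Agent.Lib.Recog.FiThree.CheckOrbits
import Cfsg.Agent.Lib.Recog.SporBound.Fi22Aut.Data

set_option autoImplicit false
set_option maxRecDepth 20000
set_option Elab.async false

/-! Kernel checks for the automorphism group of Fi23 (owner: helper18). -/

namespace CfsgLib.Recog.FiThree.Aut

open CfsgLib.Recog.BitPerm CfsgLib.ThreeTrans.CosetIndex
open CfsgLib.Recog.SporBound.Fi22Aut (yWord)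

/-- The product of the two commuting transpositions. -/
def zaW : List ℕ := [0] ++ zW

/-- The product of a transposition in the small suborbit with that one. -/
def xW : List ℕ := hA ++ [0] ++ hA.reverse ++ zaW

/-- A word times its conjugate. -/
def pairW (x g : List ℕ) : List ℕ := x ++ g ++ x.reverse ++ g.reverse

/-- Seven words giving transpositions with product one in the stabiliser of two points. -/
def odd : List (List ℕ) := [
  [],
  [3, 4, 2, 3],
  [3, 7, 2, 3],
  [5, 6, 4, 5, 3, 4, 2, 3],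
  [8, 5, 6, 4, 5, 0, 1, 2, 3, 4, 7, 0, 1, 2, 3, 4, 7, 0, 1, 2, 3, 4, 7, 0, 1, 2, 3, 4, 7, 0, 1, 2, 3, 4, 7, 7, 8, 5, 4, 3, 7, 6, 5, 4, 3],
  [3, 4, 5, 0, 1, 2, 3, 4, 7, 0, 1, 2, 3, 4, 7, 0, 1, 2, 3, 4, 7, 0, 1, 2, 3, 4, 7, 0, 1, 2, 3, 4, 7, 6, 5, 4, 3],
  [8, 0, 1, 2, 3, 4, 7, 0, 1, 2, 3, 4, 7, 0, 1, 2, 3, 4, 7, 0, 1, 2, 3, 4, 7, 0, 1, 2, 3, 4, 7, 7, 8, 5, 4, 3, 7, 6, 5, 4, 3]]

/-- The word of the relation of E7 type commuting with the first letter. -/
def eSeven : List ℕ := (List.replicate 9 [2, 3, 4, 5, 6, 7, 8]).flatten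

theorem za_two : mapsOK net (pairW zaW [1, 9, 0, 2, 3, 7, 3, 2, 1] ++ pairW zaW [1, 9, 0, 2, 3, 7, 3, 2, 1]) 997 27 = true := by decide +kernel

theorem za_three : mapsOK net (pairW zaW [1, 9, 0, 2, 3, 7, 3, 2, 1] ++ pairW zaW [1, 9, 0, 2, 3, 7, 3, 2, 1] ++ pairW zaW [1, 9, 0, 2, 3, 7, 3, 2, 1]) 997 2521 = true := by
  decide +kernel

theorem x_two : mapsOK net (pairW xW [8, 9] ++ pairW xW [8, 9]) 0 1 = true := by decide +kernel

theorem x_three : mapsOK net (pairW xW [8, 9] ++ pairW xW [8, 9] ++ pairW xW [8, 9]) 0 36 = true := by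
  decide +kernel

theorem large_moved : mapsOK net [0] pLarge 92 = true := by decide +kernel

theorem y_fixed : Nat.beq (Nat.lor (moved yWord) (Nat.lor 1 (Nat.shiftLeft 1 pA))) (2 ^ numPoints - 1) = true := by
  decide +kernel

theorem y_pJ : mapsOK net (List.replicate 11 yWord).flatten pJ pJ = true := by decide +kernel

theorem z_pJ : mapsOK net zW pJ pZ = true := by decide +kernel

theorem y_comm : idOK 15 net (yWord ++ [0] ++ yWord.reverse ++ [0]) = true := by decide +kernel

theorem y_letters : yWord.all (hLetters.contains ·) = true := by decide +kernel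

theorem eSeven_eq : idOK 15 net (eSeven ++ zW) = true := by decide +kernel

theorem odd_one : idOK 15 net (odd.flatMap fun c => c ++ [2] ++ c.reverse) = true := by decide +kernel

theorem odd_fix : (odd.all fun c => mapsOK net c 0 0 && mapsOK net c pA pA) = true := by decide +kernel

theorem letters_fix_pair : ([2, 3, 4, 5, 6, 7, 8].all fun x => mapsOK net [x] 0 0 && mapsOK net [x] pA pA) = true := by
  decide +kernel

end CfsgLib.Recog.FiThree.Aut
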