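import Cfsg.Agent.Lib.Recog.FiThree.Aut.Checks
import Cfsg.Agent.Lib.Recog.FiThree.Cover

set_option autoImplicit false
set_option maxRecDepth 20000
set_option linter.style.haveILetI false

/-!
A pair of commuting transpositions of Fi23 and the centraliser of its product (owner: helper18).
-/

namespace CfsgLib.Recog.FiThree.Aut

open Cfsg CfsgLib.Recog.BitPerm CfsgLib.Recog.SporBound CfsgLib.ThreeTrans.CosetIndex CfsgLib.Recog.FiThree

attribute [local instance] finite_fi23'

local notation "G" => Cfsg.Spor.Fi23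

/-- The product of two commuting transpositions. -/
noncomputable def za : G := gg 0 * zz

/-- Products with all conjugates have order at most three. -/
def Short (x : G) : Prop := x * x = 1 ∧ ∀ g, (x * (g * x * g⁻¹)) ^ 2 = 1 ∨ (x * (g * x * g⁻¹)) ^ 3 = 1

theorem short_trans {x : G} (hx : x ∈ trans) : Short x := by
  obtain ⟨h, rfl⟩ := mem_trans.1 hx
  refine ⟨by rw [show h * zz * h⁻¹ * (h * zz * h⁻¹) = h * (zz * zz) * h⁻¹ by group, zz_sq, mul_one, mul_inv_cancel],
    fun g => ?_⟩
  have e : h * zz * h⁻¹ * (g * (h * zz * h⁻¹) * g⁻¹) =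
      h * (zz * ((h⁻¹ * g * h) * zz * (h⁻¹ * g * h)⁻¹)) * h⁻¹ := by group
  rcases pair_order (h⁻¹ * g * h) with h2 | h3
  · exact Or.inl (by rw [e, conj_pow, h2, mul_one, mul_inv_cancel])
  · exact Or.inr (by rw [e, conj_pow, h3, mul_one, mul_inv_cancel])

theorem short_map (β : G ≃* G) {x : G} (hx : Short x) : Short (β x) := by
  refine ⟨by rw [← map_mul, hx.1, map_one], fun g => ?_⟩
  obtain ⟨g, rfl⟩ := β.surjective g
  rcases hx.2 g with h | h
  · exact Or.inl (by rw [← map_inv, ← map_mul, ← map_mul, ← map_mul, ← map_pow, h, map_one])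
  · exact Or.inr (by rw [← map_inv, ← map_mul, ← map_mul, ← map_mul, ← map_pow, h, map_one])

theorem not_short {w g : List ℕ} {p a b : ℕ} (h2 : mapsOK net (pairW w g ++ pairW w g) p a = true)
    (h3 : mapsOK net (pairW w g ++ pairW w g ++ pairW w g) p b = true) (ha : a ≠ p) (hb : b ≠ p) :
    ¬ Short (word w) := by
  rintro ⟨hsq, h⟩
  have e : word (pairW w g) = word w * (word g * word w * (word g)⁻¹) := by
    rw [pairW, word_append, word_append, word_append, word_reverse, word_reverse, inv_eq_of_mul_eq_one_right hsq]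
    group
  rcases h (word g) with h | h
  · refine ha ((act_maps h2).symm.trans ?_)
    rw [word_append, e, ← pow_two, h, map_one]; rfl
  · refine hb ((act_maps h3).symm.trans ?_)
    rw [word_append, word_append, e, ← pow_two, ← pow_succ, h, map_one]; rfl

theorem word_zaW : word zaW = za := by rw [zaW, word_append, word_singleton]; rfl

theorem za_not_short : ¬ Short za := word_zaW ▸ not_short za_two za_three (by decide) (by decide)

theorem za_not_trans : za ∉ trans := fun h => za_not_short (short_trans h)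

theorem a_mem_h : gg 0 ∈ hSub := gg_mem_h (by decide)

theorem a_zz : gg 0 * zz = zz * gg 0 := zz_comm a_mem_h

theorem za_sq : za * za = 1 := by
  rw [za, show gg 0 * zz * (gg 0 * zz) = gg 0 * (zz * gg 0) * zz by group, ← a_zz, ← mul_assoc, gg_sq, one_mul, zz_sq]

theorem za_ne_one : za ≠ 1 := fun h => za_not_short (by
  rw [h]; exact ⟨one_mul 1, fun g => Or.inl (by group)⟩)

theorem za_zz : za * zz = zz * za := by
  rw [za, ← mul_assoc zz, ← a_zz]

theorem za_a : za * gg 0 = gg 0 * za := by rw [za, mul_assoc, ← a_zz]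

theorem zz_trans : zz ∈ trans := mem_conjugatesOf_self

theorem a_trans : gg 0 ∈ trans := mem_trans.2 ⟨word ga, ga_zz.symm⟩

theorem mem_h_of_comm {h : G} (e : h * zz = zz * h) : h ∈ hSub := by
  rw [← centralizer_zz]; exact Subgroup.mem_centralizer_singleton_iff.2 e

theorem conj_of_pt {g g' : G} (h : pt g = pt g') : g * zz * g⁻¹ = g' * zz * g'⁻¹ := by
  have e := zz_comm (pt_eq_iff.1 h)
  calc g * zz * g⁻¹ = g * (zz * (g⁻¹ * g')) * g'⁻¹ := by group
    _ = g * (g⁻¹ * g' * zz) * g'⁻¹ := by rw [e]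
    _ = _ := by group

theorem pt_of_conj {g g' : G} (h : g * zz * g⁻¹ = g' * zz * g'⁻¹) : pt g = pt g' := by
  refine pt_eq_iff.2 (mem_h_of_comm ?_)
  calc g⁻¹ * g' * zz = g⁻¹ * (g' * zz * g'⁻¹) * g' := by group
    _ = _ := by rw [← h]; group

theorem comm_iff_fix {g h : G} : h * (g * zz * g⁻¹) = g * zz * g⁻¹ * h ↔ act h (pt g) = pt g := by
  rw [show act h (pt g) = pt (h * g) by rw [pt, pt, map_mul, Equiv.Perm.mul_apply]]
  constructor
  · intro e
    refine pt_of_conj ?_
    calc h * g * zz * (h * g)⁻¹ = h * (g * zz * g⁻¹) * h⁻¹ := by group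
      _ = _ := by rw [e, mul_inv_cancel_right]
  · intro e
    calc h * (g * zz * g⁻¹) = h * g * zz * (h * g)⁻¹ * h := by group
      _ = _ := by rw [conj_of_pt e]

theorem gg9_not_comm : ¬ gg 9 * zz = zz * gg 9 := by
  intro e
  rw [← gj_zz] at e
  have h := comm_iff_fix.1 e.symm
  rw [pt_gj, act_maps z_pJ] at h
  exact absurd h (by decide)

theorem pt_hA : pt (word hA * word ga) = pSmall := by
  rw [pt, map_mul, Equiv.Perm.mul_apply, show act (word ga) 0 = pA from pt_ga]
  exact act_maps (Bool.and_eq_true_iff.1 hA_maps).1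

theorem pt_mul (x y : G) : pt (x * y) = act x (pt y) := by
  simp only [pt, map_mul, Equiv.Perm.mul_apply]

theorem comm_za {k : G} (hk : k ∈ hSub) (ha : k * gg 0 = gg 0 * k) : k * za = za * k := by
  rw [za, ← mul_assoc, ha, mul_assoc, zz_comm hk, mul_assoc]

theorem near_not {t : G} (ht : t ∈ trans) (hz : t * zz = zz * t) (ha : t * gg 0 = gg 0 * t)
    (h1 : t ≠ zz) (h2 : t ≠ gg 0) : t * za ∉ trans := by
  obtain ⟨g, rfl⟩ := mem_trans.1 ht
  intro hs
  rcases cover (pt_lt g) with h | h | h
  · exact h1 (by rw [conj_of_pt (g' := 1) (h.trans (by rw [pt, map_one]; rfl))]; group)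
  · rcases cover_sub h with hA' | hS | hL
    · exact h2 ((conj_of_pt (hA'.trans pt_ga.symm)).trans ga_zz)
    · obtain ⟨k, hk, e⟩ := sub_orbit hS
      have e' : g * zz * g⁻¹ = k * (word hA * gg 0 * (word hA)⁻¹) * (k : G)⁻¹ := by
        rw [conj_of_pt (g' := (k : G) * (word hA * word ga)) (by
          rw [pt_mul (k : G) (word hA * word ga), pt_hA, e]), ← ga_zz]
        group
      have hkz := comm_za k.2 (kSub_comm_a hk)
      refine not_short x_two x_three (by decide) (by decide) (short_trans ?_)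
      rw [xW, word_append, word_append, word_append, word_reverse, word_singleton, word_zaW]
      obtain ⟨m, hm⟩ := mem_trans.1 hs
      refine mem_trans.2 ⟨(k : G)⁻¹ * m, ?_⟩
      calc word hA * gg 0 * (word hA)⁻¹ * za
          = (k : G)⁻¹ * ((k * (word hA * gg 0 * (word hA)⁻¹) * (k : G)⁻¹) * ((k : G) * za)) := by group
        _ = (k : G)⁻¹ * ((g * zz * g⁻¹) * (za * k)) := by rw [← e', hkz]
        _ = (k : G)⁻¹ * (g * zz * g⁻¹ * za) * k := by group
        _ = _ := by rw [hm]; group
    · obtain ⟨k, hk, e⟩ := sub_orbit hL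
      have h0 := comm_iff_fix.1 ha.symm
      have h' : act (gg 0) pLarge = pLarge := by
        apply (act (k : G)).injective
        rw [← Equiv.Perm.mul_apply, ← map_mul, kSub_comm_a hk, map_mul, Equiv.Perm.mul_apply, e]
        exact h0
      rw [← word_singleton, act_maps large_moved] at h'
      exact absurd h' (by decide)
  · obtain ⟨k, hk, e⟩ := orb2_sub h
    have e' : g * zz * g⁻¹ = k * gg 9 * k⁻¹ := by
      rw [conj_of_pt (g' := k * word gj) (by
        rw [show pt (k * word gj) = act k (pt (word gj)) by simp only [pt, map_mul, Equiv.Perm.mul_apply], pt_gj, e]),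
        ← gj_zz]
      group
    rw [e'] at hz
    have hkz := zz_comm hk
    refine gg9_not_comm ?_
    calc gg 9 * zz = k⁻¹ * (k * gg 9 * k⁻¹ * zz) * k := by
          rw [show k * gg 9 * k⁻¹ * zz = k * gg 9 * (k⁻¹ * zz) by group, show k⁻¹ * zz = zz * k⁻¹ from
            (Commute.inv_left (show Commute k zz from hkz)).eq]
          group
      _ = k⁻¹ * (zz * (k * gg 9 * k⁻¹)) * k := by rw [hz]
      _ = _ := by
          rw [show k⁻¹ * (zz * (k * gg 9 * k⁻¹)) * k = k⁻¹ * (zz * k) * gg 9 by group, ← hkz]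
          group

theorem comm_of_prod {d t s : G} (hd : d ∈ trans) (ht : t ∈ trans) (hs : s ∈ trans)
    (hm : t * s = za) (hdm : za * d = d * za) : t * d = d * t := by
  have hd2 := (short_trans hd).1
  have ht2 := (short_trans ht).1
  have hs2 := (short_trans hs).1
  have braid : ∀ u : G, u ∈ trans → ¬ u * d = d * u → u * d * u = d * u * d := by
    intro u hu hne
    have hu2 := (short_trans hu).1
    obtain ⟨c, hc⟩ := mem_trans.1 hu
    obtain ⟨e, he⟩ := mem_trans.1 hd
    have hq := (short_trans hu).2 (e * c⁻¹)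
    rw [show e * c⁻¹ * u * (e * c⁻¹)⁻¹ = d by rw [hc, he]; group] at hq
    rcases hq with hq | hq
    · refine absurd ?_ hne
      rw [pow_two] at hq
      calc u * d = u * d * (u * d * (u * d))⁻¹ := by rw [hq, inv_one, mul_one]
        _ = d⁻¹ * u⁻¹ := by group
        _ = _ := by rw [inv_eq_of_mul_eq_one_right hd2, inv_eq_of_mul_eq_one_right hu2]
    · calc u * d * u = (u * d) ^ 3 * (d⁻¹ * u⁻¹ * d⁻¹) := by rw [pow_succ, pow_two]; group
        _ = _ := by rw [hq, one_mul, inv_eq_of_mul_eq_one_right hd2, inv_eq_of_mul_eq_one_right hu2]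
  by_contra hne
  have hst : s = t * za := by rw [← hm, ← mul_assoc, ht2, one_mul]
  have hne' : ¬ s * d = d * s := fun e => hne (by
    have : t = za * s := by rw [← hm, mul_assoc, hs2, mul_one]
    rw [this, mul_assoc, e, ← mul_assoc, hdm, mul_assoc])
  have e1 : t * d * t = s * d * s := by
    have e0 : t * (s * d * s) * t = d := by
      calc t * (s * d * s) * t = t * s * d * (t * s)⁻¹ := by
            rw [mul_inv_rev, inv_eq_of_mul_eq_one_right hs2, inv_eq_of_mul_eq_one_right ht2]; group
        _ = d := by rw [hm, hdm, mul_inv_cancel_right]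
    calc t * d * t = t * (t * (s * d * s) * t) * t := by rw [e0]
      _ = t * t * (s * d * s) * (t * t) := by group
      _ = _ := by rw [ht2, one_mul, mul_one]
  rw [braid t ht hne, braid s hs hne'] at e1
  have hts : t = s := mul_left_cancel (mul_right_cancel e1)
  exact za_ne_one (by rw [← hm, hts, hs2])

theorem pair_unique {t s : G} (ht : t ∈ trans) (hs : s ∈ trans) (hm : t * s = za) : t = zz ∨ t = gg 0 := by
  by_contra! h
  refine near_not ht (comm_of_prod zz_trans ht hs hm za_zz) (comm_of_prod a_trans ht hs hm za_a) h.1 h.2 ?_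
  rwa [← hm, ← mul_assoc, (short_trans ht).1, one_mul]

/-- The centraliser of the product. -/
noncomputable abbrev cPair : Subgroup G := Subgroup.centralizer {za}

theorem cPair_pt {g : G} (hg : g ∈ cPair) :
    (act g 0 = 0 ∧ act g pA = pA) ∨ (act g 0 = pA ∧ act g pA = 0) := by
  have hm : (g * zz * g⁻¹) * (g * gg 0 * g⁻¹) = za := by
    rw [show g * zz * g⁻¹ * (g * gg 0 * g⁻¹) = g * (zz * gg 0) * g⁻¹ by group, ← a_zz, ← za,
      Subgroup.mem_centralizer_singleton_iff.1 hg, mul_inv_cancel_right]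
  have h1 : pt (1 : G) = 0 := by rw [pt, map_one]; rfl
  have hpa : pt (g * word ga) = act g pA := by
    rw [pt, map_mul, Equiv.Perm.mul_apply, show act (word ga) 0 = pA from pt_ga]
  have hga : g * gg 0 * g⁻¹ = g * word ga * zz * (g * word ga)⁻¹ := by rw [← ga_zz]; group
  have hs : g * gg 0 * g⁻¹ = (g * zz * g⁻¹)⁻¹ * za := eq_inv_mul_iff_mul_eq.2 hm
  rcases pair_unique (mem_trans.2 ⟨g, rfl⟩) (mem_trans.2 ⟨_, hga⟩) hm with h | h
  · refine Or.inl ⟨(pt_of_conj (g := g) (g' := 1) (by rw [h]; group)).trans h1, ?_⟩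
    rw [h, za, a_zz, ← mul_assoc, inv_mul_cancel, one_mul, hga] at hs
    exact hpa.symm.trans ((pt_of_conj (hs.trans ga_zz.symm)).trans pt_ga)
  · refine Or.inr ⟨(pt_of_conj (g := g) (g' := word ga) (by rw [h, ga_zz])).trans pt_ga, ?_⟩
    rw [h, za, ← mul_assoc, inv_mul_cancel, one_mul, hga] at hs
    exact hpa.symm.trans ((pt_of_conj (g' := 1) (by rw [hs]; group)).trans h1)

/-- The permutation of the pair, as a sign. -/
noncomputable def swapSign : cPair →* ℤˣ :=
  MonoidHom.mk' (fun g => if act (g : G) 0 = 0 then 1 else -1) fun g h => by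
    have hp : pA ≠ 0 := by decide
    have e : act (((g * h : cPair) : G)) 0 = act (g : G) (act (h : G) 0) := by
      rw [Subgroup.coe_mul, map_mul, Equiv.Perm.mul_apply]
    simp only [e]
    rcases cPair_pt g.2 with ⟨g0, g1⟩ | ⟨g0, g1⟩ <;> rcases cPair_pt h.2 with ⟨h0, -⟩ | ⟨h0, -⟩ <;>
      simp [g0, g1, h0, hp]

theorem swapSign_eq {g : cPair} (h : swapSign g = 1) : act (g : G) 0 = 0 := by
  by_contra hne
  change (if act (g : G) 0 = 0 then (1 : ℤˣ) else -1) = 1 at h
  rw [if_neg hne] at h
  exact absurd h (by decide)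

end CfsgLib.Recog.FiThree.Aut
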